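import Cfsg.Agent.Lib.Fusion.MathieuCertM22
import Cfsg.Agent.Lib.Golay.Mathieu
import Cfsg.Agent.Lib.KnownA.MathieuOut

/-!
Kernel checked facts on the elementary abelian subgroups of order 16 of `M₂₂`, used for the
recognition by Janko-four type: a Sylow 2-subgroup contains exactly two of them and no larger
one; the first is self centralising, has an elementary subgroup of order 9 in its normaliser and
its normaliser is transitive on the involutions; the second has a Frobenius group of order 20
in its normaliser.
-/

set_option autoImplicit false

namespace CfsgLib.J4Local.MTwoTwo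

open CfsgLib.Fusion.MathieuCert CfsgLib.Golay CfsgLib.KnownA CfsgLib.KnownA.Mathieu
open CfsgLib.Fusion.MathieuCert.M22 (cert els_ok nxt_ok pred_ok sq_ok)

/-- Indices of the involutions of the first subgroup of order 16. -/
def lOne : List ℕ := [15, 23, 24, 32, 47, 55, 56, 64, 79, 87, 88, 96, 111, 119, 120]

/-- Indices of the involutions of the second subgroup of order 16. -/
def lTwo : List ℕ := [5, 8, 13, 32, 37, 40, 45, 64, 69, 72, 77, 96, 101, 104, 109]

/-- Two commuting elements of order 3 and one of order 5 normalising the first subgroup. -/
def gOne : List ℕ := [984809368035280166958453665004231712,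
  983994350680117690865715998992113248, 963678461067685710408460874997075488]

/-- Orbit certificate: `(d, j, k)` says that the generator `k` maps the involution `j` to `d`. -/
def orbOne : List (ℕ × ℕ × ℕ) :=
  [(111, 15, 0), (47, 15, 1), (56, 15, 2), (23, 111, 0), (87, 111, 1), (119, 111, 2), (32, 47, 1),
   (64, 47, 2), (88, 56, 0), (24, 56, 2), (79, 23, 1), (55, 119, 1), (120, 32, 2), (96, 24, 0)]

/-- The generators of the Frobenius group normalising the second subgroup. -/
def gX : ℕ := 964738109233868121455084706393892320

/-- The generators of the Frobenius group normalising the second subgroup. -/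
def gY : ℕ := 971177042526394959978685236562216064

/-- The list of indices is closed under products and consists of involutions. -/
def groupOK (l : List ℕ) : Bool :=
  l.all (fun a => Nat.blt a (2 ^ cert.m) && Nat.beq (cert.sq.get a) 0 && !Nat.beq a 0) &&
  (0 :: l).all fun a => (0 :: l).all fun b => (0 :: l).any fun c =>
    isProd (el cert a) (el cert b) (el cert c)

/-- The element `g` maps the list into itself by conjugation. -/
def normOK (l : List ℕ) (g : ℕ) : Bool :=
  inFix X22 g && (0 :: l).all fun a => (0 :: l).any fun c =>
    eqW [g, el cert a] [el cert c, g]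

/-- Cliques of the commuting graph with at least 15 members lie in one of the two lists
(`fuel` bounds the number of candidates left). -/
def cliqueOK : ℕ → List ℕ → List ℕ → Bool
  | _, chosen, [] => Nat.blt chosen.length 15 ||
      chosen.all (fun a => lOne.elem a) || chosen.all (fun a => lTwo.elem a)
  | 0, _, _ :: _ => false
  | fuel + 1, chosen, a :: rest => Nat.blt (chosen.length + (a :: rest).length) 15 ||
      (cliqueOK fuel (a :: chosen) (rest.filter (commB cert a)) && cliqueOK fuel chosen rest)

/-- The involution indices. -/
def invs : List ℕ :=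
  (List.range (2 ^ cert.m)).filter fun d => Nat.beq (cert.sq.get d) 0 && !Nat.beq d 0

theorem clique_all : cliqueOK 128 [] invs = true := by decide +kernel

theorem groupOK_one : groupOK lOne = true := by decide +kernel

theorem groupOK_two : groupOK lTwo = true := by decide +kernel

theorem normOK_one : gOne.all (normOK lOne) = true := by decide +kernel

theorem normOK_two : (normOK lTwo gX && normOK lTwo gY) = true := by decide +kernel

theorem orbOK : orbOne.all (fun t => Nat.blt t.2.2 3 &&
    eqW [gOne.getD t.2.2 0, el cert t.2.1] [el cert t.1, gOne.getD t.2.2 0]) = true := by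
  decide +kernel

theorem relOne : (eqW [gOne.getD 0 0, gOne.getD 0 0, gOne.getD 0 0] [] &&
    eqW [gOne.getD 1 0, gOne.getD 1 0, gOne.getD 1 0] [] &&
    eqW [gOne.getD 0 0, gOne.getD 1 0] [gOne.getD 1 0, gOne.getD 0 0] &&
    !eqW [gOne.getD 0 0] [] && !eqW [gOne.getD 0 0] [gOne.getD 1 0] &&
    !eqW [gOne.getD 0 0] [gOne.getD 1 0, gOne.getD 1 0] && !eqW [gOne.getD 1 0] []) = true := by
  decide +kernel

theorem relTwo : (eqW [gX, gX, gX, gX, gX] [] && !eqW [gX] [] &&
    eqW [gY, gX] [gX, gX, gY]) = true := by
  decide +kernel

/-- The common fixed points (8 points) of the first subgroup are mapped among themselves. -/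
def movedSet : ℕ := 7001086

theorem moved_check : ((List.range 24).all fun i =>
    (movedSet.testBit i || lOne.all (fun d => Nat.beq (img (el cert d) i) i)) &&
    (!movedSet.testBit i || lOne.any (fun d => !Nat.beq (img (el cert d) i) i)) &&
    (!movedSet.testBit i || (0 :: lOne).any (fun d => Nat.beq (img (el cert d) 1) i))) = true ∧
    movedSet.testBit 1 = true := by
  decide +kernel

/-- Codewords meeting the moved set. -/
def octs : List ℕ :=
  [742412, 2605066, 2921478, 4845570, 4900873, 5902343, 7221256, 11163650, 12222476, 14716939]

/-- The sets fixed by an element fixing the moved set pointwise. -/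
def fixedSets : List ℕ :=
  [7001086, 675852, 2277386, 2658310, 4771842, 4898824, 4853766, 6950920, 2772994, 2785292,
   6328330] ++ [1, 8388608] ++
  [2, 4, 8, 16, 32, 64, 128, 256, 512, 4096, 16384, 32768, 131072, 524288, 2097152, 4194304]

/-- Derivation steps pinning down the identity. -/
def fixedFin : List (ℕ × ℕ × ℕ) :=
  [(4, 742412, 742412), (6, 2605066, 2605066), (8, 2921478, 2921478), (10, 4845570, 4845570),
   (12, 4900873, 4900873), (14, 5902343, 5902343), (16, 7221256, 7221256),
   (18, 11163650, 11163650), (20, 12222476, 12222476), (22, 14716939, 14716939), (1, 4, 0),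
   (1, 8, 10), (2, 0, 12), (1, 5, 8), (2, 0, 14), (1, 11, 8), (2, 0, 16), (1, 13, 15), (2, 0, 18),
   (1, 12, 17), (2, 0, 20), (1, 15, 12), (2, 0, 22), (1, 13, 14)]

theorem fixed_chain : chainOK fixedSets [] fixedFin = true := by decide +kernel

theorem fixedSets_ok : (fixedSets.all fun A => A == 1 || A == 8388608 ||
    ((List.range 24).all fun i => !A.testBit i || movedSet.testBit i)) = true := by
  decide +kernel

end CfsgLib.J4Local.MTwoTwo
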