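import Cfsg.Agent.Lib.InvChar.J4Local.M22Facts

/-!
The two elementary abelian subgroups of order 16 in a Sylow 2-subgroup of `M₂₂`.
-/

set_option autoImplicit false

namespace CfsgLib.J4Local.MTwoTwo

open Cfsg CfsgLib.Fusion.MathieuCert CfsgLib.Golay CfsgLib.KnownA CfsgLib.KnownA.Mathieu
open scoped Pointwise
open CfsgLib.Fusion.MathieuCert.M22 (cert els_ok nxt_ok pred_ok sq_ok)

/-- The model of `M₂₂`. -/
abbrev MG : Type := ↥(fixMasks X22)

/-- The element with a given index. -/
noncomputable def elM (d : ℕ) : MG :=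
  if h : d < 2 ^ cert.m then ⟨P cert d, inFix_mem (el_inFix els_ok h)⟩ else 1

theorem coe_elM {d : ℕ} (h : d < 2 ^ cert.m) : (elM d : Equiv.Perm GolayPt) = P cert d := by
  rw [elM, dif_pos h]

theorem elM_zero : elM 0 = 1 :=
  Subtype.ext ((coe_elM (Nat.two_pow_pos _)).trans (P_zero els_ok))

theorem elM_injective {d e : ℕ} (hd : d < 2 ^ cert.m) (he : e < 2 ^ cert.m)
    (h : elM d = elM e) : d = e :=
  P_injective els_ok hd he (by rw [← coe_elM hd, ← coe_elM he, h])

/-- The element of the model with a given code. -/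
noncomputable def gM (g : ℕ) : MG :=
  if h : inFix X22 g = true then ⟨permOf g, inFix_mem h⟩ else 1

theorem coe_gM {g : ℕ} (h : inFix X22 g = true) : (gM g : Equiv.Perm GolayPt) = permOf g := by
  rw [gM, dif_pos h]

theorem lt_of_mem {l : List ℕ} (h : groupOK l = true) {a : ℕ} (ha : a ∈ 0 :: l) :
    a < 2 ^ cert.m := by
  rcases List.mem_cons.1 ha with rfl | ha
  · exact Nat.two_pow_pos _
  · simp only [groupOK, Bool.and_eq_true, List.all_eq_true] at h
    exact Nat.le_of_ble_eq_true (h.1 a ha).1.1

theorem mul_mem_list {l : List ℕ} (h : groupOK l = true) {a b : ℕ} (ha : a ∈ 0 :: l)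
    (hb : b ∈ 0 :: l) : ∃ c ∈ 0 :: l, elM c = elM a * elM b := by
  have la := lt_of_mem h ha
  have lb := lt_of_mem h hb
  have h' := h
  simp only [groupOK, Bool.and_eq_true, List.all_eq_true, List.any_eq_true] at h'
  obtain ⟨c, hc, hp⟩ := h'.2 a ha b hb
  refine ⟨c, hc, Subtype.ext ?_⟩
  rw [Subgroup.coe_mul, coe_elM la, coe_elM lb, coe_elM (lt_of_mem h hc)]
  exact (isProd_sound (el_valid els_ok la) (el_valid els_ok lb) hp).2

theorem sq_list {l : List ℕ} (h : groupOK l = true) {a : ℕ} (ha : a ∈ 0 :: l) :
    elM a * elM a = 1 := by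
  have la := lt_of_mem h ha
  rcases List.mem_cons.1 ha with rfl | ha
  · rw [elM_zero, one_mul]
  · simp only [groupOK, Bool.and_eq_true, List.all_eq_true] at h
    have h0 := Nat.eq_of_beq_eq_true (h.1 a ha).1.2
    apply Subtype.ext
    rw [Subgroup.coe_mul, coe_elM la, Subgroup.coe_one, ← (sq_spec els_ok sq_ok la).2, h0]
    exact P_zero els_ok

/-- The subgroup with a given list of indices. -/
noncomputable def grp (l : List ℕ) (h : groupOK l = true) : Subgroup MG where
  carrier := {x | ∃ a ∈ 0 :: l, elM a = x}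
  one_mem' := ⟨0, List.mem_cons_self .., elM_zero⟩
  mul_mem' := by
    rintro x y ⟨a, ha, rfl⟩ ⟨b, hb, rfl⟩
    exact mul_mem_list h ha hb
  inv_mem' := by
    rintro x ⟨a, ha, rfl⟩
    exact ⟨a, ha, (inv_eq_of_mul_eq_one_right (sq_list h ha)).symm⟩

theorem sq_grp {l : List ℕ} (h : groupOK l = true) {x : MG} (hx : x ∈ grp l h) : x ^ 2 = 1 := by
  obtain ⟨a, ha, rfl⟩ := hx
  rw [pow_two, sq_list h ha]

theorem card_grp {l : List ℕ} (h : groupOK l = true) (hn : (0 :: l).Nodup) :
    Nat.card (grp l h) = (0 :: l).length := by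
  classical
  have heq : ((0 :: l).map elM).toFinset = (grp l h : Set MG).toFinite.toFinset := by
    ext x
    simp only [List.mem_toFinset, List.mem_map, Set.Finite.mem_toFinset, SetLike.mem_coe]
    rfl
  have h1 : Nat.card (grp l h) = (grp l h : Set MG).toFinite.toFinset.card :=
    Nat.card_eq_card_finite_toFinset _
  rw [h1, ← heq, List.toFinset_card_of_nodup, List.length_map]
  exact List.Nodup.map_on (fun a ha b hb hab => elM_injective (lt_of_mem h ha) (lt_of_mem h hb) hab) hn

theorem gM_normalizes {l : List ℕ} (h : groupOK l = true) {g : ℕ} (hg : normOK l g = true) :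
    inFix X22 g = true ∧ gM g ∈ Subgroup.normalizer (grp l h : Set MG) := by
  simp only [normOK, Bool.and_eq_true, List.all_eq_true, List.any_eq_true] at hg
  refine ⟨hg.1, ?_⟩
  have hmap : ∀ x ∈ grp l h, gM g * x * (gM g)⁻¹ ∈ grp l h := by
    rintro x ⟨a, ha, rfl⟩
    obtain ⟨c, hc, hp⟩ := hg.2 a ha
    refine ⟨c, hc, ?_⟩
    rw [eq_mul_inv_iff_mul_eq]
    apply Subtype.ext
    have hla := lt_of_mem h ha
    have hlc := lt_of_mem h hc
    have := eqW_sound (L := [g, el cert a]) (L' := [el cert c, g])
      (by simp [inFix_valid hg.1, el_valid els_ok hla, el_valid els_ok hlc]) hp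
    simp only [List.map_cons, List.map_nil, List.prod_cons, List.prod_nil, mul_one] at this
    rw [Subgroup.coe_mul, Subgroup.coe_mul, coe_gM hg.1, coe_elM hla, coe_elM hlc]
    exact this.symm
  refine Subgroup.mem_normalizer_iff.2 fun x => ⟨hmap x, fun hx => ?_⟩
  have hfin : Function.Surjective
      (fun y : grp l h => (⟨_, hmap y.1 y.2⟩ : grp l h)) :=
    Finite.injective_iff_surjective.1 fun y z hyz => by
      have := congrArg Subtype.val hyz
      exact Subtype.ext (mul_left_cancel (mul_right_cancel this))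
  obtain ⟨y, hy⟩ := hfin ⟨_, hx⟩
  have : gM g * y.1 * (gM g)⁻¹ = gM g * x * (gM g)⁻¹ := congrArg Subtype.val hy
  rw [← mul_left_cancel (mul_right_cancel this)]
  exact y.2

theorem cliqueOK_sound : ∀ (fuel : ℕ) (chosen cand : List ℕ), cliqueOK fuel chosen cand = true →
    ∀ D : Finset ℕ, 15 ≤ D.card → (∀ a ∈ D, ∀ b ∈ D, commB cert a b = true) →
      (∀ a ∈ chosen, a ∈ D) → (∀ a ∈ D, a ∈ chosen ∨ a ∈ cand) →
      D ⊆ lOne.toFinset ∨ D ⊆ lTwo.toFinset := by
  intro fuel
  induction fuel with
  | zero =>
    intro chosen cand h D h15 hcomm hch hsub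
    match cand, h with
    | [], h =>
      simp only [cliqueOK, Bool.or_eq_true, List.all_eq_true] at h
      rcases h with (h | h) | h
      · have hlt : chosen.length < 15 := Nat.le_of_ble_eq_true h
        have : D.card ≤ chosen.toFinset.card := Finset.card_le_card fun a ha => by
          simpa using hsub a ha
        have := List.toFinset_card_le chosen
        omega
      · left; intro a ha
        rcases hsub a ha with h' | h'
        · simpa using h a h'
        · simp at h'
      · right; intro a ha
        rcases hsub a ha with h' | h'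
        · simpa using h a h'
        · simp at h'
  | succ fuel ih =>
    intro chosen cand h D h15 hcomm hch hsub
    match cand, h with
    | [], h =>
      simp only [cliqueOK, Bool.or_eq_true, List.all_eq_true] at h
      rcases h with (h | h) | h
      · have hlt : chosen.length < 15 := Nat.le_of_ble_eq_true h
        have : D.card ≤ chosen.toFinset.card := Finset.card_le_card fun a ha => by
          simpa using hsub a ha
        have := List.toFinset_card_le chosen
        omega
      · left; intro a ha
        rcases hsub a ha with h' | h'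
        · simpa using h a h'
        · simp at h'
      · right; intro a ha
        rcases hsub a ha with h' | h'
        · simpa using h a h'
        · simp at h'
    | a :: rest, h =>
      simp only [cliqueOK, Bool.or_eq_true, Bool.and_eq_true] at h
      rcases h with h | ⟨hin, hout⟩
      · have hlt : chosen.length + (a :: rest).length < 15 := Nat.le_of_ble_eq_true h
        have hle : D.card ≤ (chosen ++ a :: rest).toFinset.card := Finset.card_le_card fun x hx => by
          have := hsub x hx
          simpa only [List.mem_toFinset, List.mem_append] using this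
        have := List.toFinset_card_le (chosen ++ a :: rest)
        rw [List.length_append] at this
        omega
      · by_cases ha : a ∈ D
        · refine ih _ _ hin D h15 hcomm ?_ ?_
          · intro x hx
            rcases List.mem_cons.1 hx with rfl | hx
            · exact ha
            · exact hch x hx
          · intro x hx
            rcases hsub x hx with h' | h'
            · exact .inl (List.mem_cons_of_mem _ h')
            · rcases List.mem_cons.1 h' with rfl | h'
              · exact .inl (List.mem_cons_self ..)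
              · exact .inr (List.mem_filter.2 ⟨h', hcomm a ha x hx⟩)
        · refine ih _ _ hout D h15 hcomm hch fun x hx => ?_
          rcases hsub x hx with h' | h'
          · exact .inl h'
          · rcases List.mem_cons.1 h' with rfl | h'
            · exact absurd hx ha
            · exact .inr h'

/-- The Sylow 2-subgroup of the model. -/
noncomputable def syl : Subgroup MG := (H cert 0).subgroupOf (fixMasks X22)

theorem mem_syl {x : MG} : x ∈ syl ↔ ∃ d < 2 ^ cert.m, elM d = x := by
  rw [syl, Subgroup.mem_subgroupOf, mem_H els_ok nxt_ok pred_ok]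
  refine exists_congr fun d => and_congr_right fun hd => ?_
  rw [← coe_elM hd]
  exact ⟨fun h => Subtype.ext h.2, fun h => ⟨by simp, congrArg Subtype.val h⟩⟩

theorem card_syl : Nat.card syl = 128 := by
  rw [syl, Nat.card_congr (Subgroup.subgroupOfEquivOfLe (H_le_fix els_ok 0)).toEquiv,
    card_H els_ok nxt_ok pred_ok]
  decide +kernel

/-- The first subgroup of order 16. -/
noncomputable def bOne : Subgroup MG := grp lOne groupOK_one

/-- The second subgroup of order 16. -/
noncomputable def bTwo : Subgroup MG := grp lTwo groupOK_two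

theorem card_bOne : Nat.card bOne = 16 := by
  rw [bOne, card_grp groupOK_one (by decide)]; rfl

theorem card_bTwo : Nat.card bTwo = 16 := by
  rw [bTwo, card_grp groupOK_two (by decide)]; rfl

theorem grp_le_syl {l : List ℕ} (h : groupOK l = true) : grp l h ≤ syl := by
  rintro x ⟨a, ha, rfl⟩
  exact mem_syl.2 ⟨a, lt_of_mem h ha, rfl⟩

/-- The only elementary abelian subgroups of order at least 16 in the Sylow 2-subgroup. -/
theorem elem_in_syl {A : Subgroup MG} (hA : A ≤ syl) (hsq : ∀ x ∈ A, x ^ 2 = 1)
    (hc : 16 ≤ Nat.card A) : A = bOne ∨ A = bTwo := by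
  classical
  let D : Finset ℕ := (Finset.range (2 ^ cert.m)).filter fun d => d ≠ 0 ∧ elM d ∈ A
  have hD : ∀ d ∈ D, d < 2 ^ cert.m ∧ d ≠ 0 ∧ elM d ∈ A := by
    intro d hd
    simpa [D] using hd
  have hcardA : Nat.card A ≤ D.card + 1 := by
    have hsurj : ∀ x ∈ (A : Set MG).toFinite.toFinset, ∃ d ∈ insert 0 D, elM d = x := by
      intro x hx
      rw [Set.Finite.mem_toFinset, SetLike.mem_coe] at hx
      obtain ⟨d, hd, rfl⟩ := mem_syl.1 (hA hx)
      refine ⟨d, ?_, rfl⟩
      by_cases h0 : d = 0
      · simp [h0]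
      · exact Finset.mem_insert_of_mem (by simp [D, hd, h0, hx])
    have : (A : Set MG).toFinite.toFinset ⊆ (insert 0 D).image elM := fun x hx => by
      obtain ⟨d, hd, h⟩ := hsurj x hx
      exact Finset.mem_image.2 ⟨d, hd, h⟩
    calc Nat.card A = (A : Set MG).toFinite.toFinset.card := Nat.card_eq_card_finite_toFinset _
      _ ≤ ((insert 0 D).image elM).card := Finset.card_le_card this
      _ ≤ (insert 0 D).card := Finset.card_image_le
      _ ≤ D.card + 1 := Finset.card_insert_le _ _
  have hcomm : ∀ a ∈ D, ∀ b ∈ D, commB cert a b = true := by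
    intro a ha b hb
    obtain ⟨la, -, ma⟩ := hD a ha
    obtain ⟨lb, -, mb⟩ := hD b hb
    refine (commB_iff els_ok la lb).2 ?_
    rw [← coe_elM la, ← coe_elM lb, ← Subgroup.coe_mul, ← Subgroup.coe_mul]
    refine congrArg Subtype.val ?_
    have h1 := hsq _ ma
    have h2 := hsq _ mb
    have h3 := hsq _ (mul_mem ma mb)
    rw [pow_two] at h1 h2 h3
    calc elM a * elM b = (elM a * elM b)⁻¹ := (inv_eq_of_mul_eq_one_right h3).symm
      _ = (elM b)⁻¹ * (elM a)⁻¹ := mul_inv_rev _ _
      _ = elM b * elM a := by
          rw [inv_eq_of_mul_eq_one_right h1, inv_eq_of_mul_eq_one_right h2]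
  have hinv : ∀ a ∈ D, a ∈ invs := by
    intro a ha
    obtain ⟨la, h0, ma⟩ := hD a ha
    obtain ⟨hl, hs⟩ := sq_spec els_ok sq_ok la
    have : cert.sq.get a = 0 := by
      refine P_injective els_ok hl (Nat.two_pow_pos _) ?_
      rw [hs, P_zero els_ok, ← coe_elM la, ← Subgroup.coe_mul, ← pow_two, hsq _ ma,
        Subgroup.coe_one]
    have hb0 : Nat.beq a 0 = false := by
      rw [← Bool.not_eq_true]
      exact fun h => h0 (Nat.eq_of_beq_eq_true h)
    simp only [invs, List.mem_filter, List.mem_range, this, hb0]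
    exact ⟨la, rfl⟩
  have key := cliqueOK_sound 128 [] invs clique_all D (by omega) hcomm (by simp)
    (fun a ha => .inr (hinv a ha))
  have main : ∀ (l : List ℕ) (hl : groupOK l = true), l.length = 15 → D ⊆ l.toFinset →
      A = grp l hl := by
    intro l hl hlen hsub
    have hle : A ≤ grp l hl := by
      intro x hx
      obtain ⟨d, hd, rfl⟩ := mem_syl.1 (hA hx)
      by_cases h0 : d = 0
      · exact h0 ▸ ⟨0, List.mem_cons_self .., rfl⟩
      · have : d ∈ D := by simp [D, hd, h0, hx]
        exact ⟨d, List.mem_cons_of_mem _ (List.mem_toFinset.1 (hsub this)), rfl⟩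
    refine Subgroup.eq_of_le_of_card_ge hle ?_
    have h1 : Nat.card (grp l hl) ≤ 16 := by
      have hs : (grp l hl : Set MG).toFinite.toFinset ⊆ ((0 :: l).map elM).toFinset := fun x hx => by
        rw [Set.Finite.mem_toFinset] at hx
        exact List.mem_toFinset.2 (List.mem_map.2 hx)
      calc Nat.card (grp l hl) = (grp l hl : Set MG).toFinite.toFinset.card :=
            Nat.card_eq_card_finite_toFinset _
        _ ≤ ((0 :: l).map elM).toFinset.card := Finset.card_le_card hs
        _ ≤ ((0 :: l).map elM).length := List.toFinset_card_le _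
        _ = 16 := by rw [List.length_map, List.length_cons, hlen]
    omega
  rcases key with h | h
  · exact .inl (main lOne groupOK_one rfl h)
  · exact .inr (main lTwo groupOK_two rfl h)

/-- The first subgroup is self centralising. -/
theorem centralizer_bOne : Subgroup.centralizer (bOne : Set MG) ≤ bOne := by
  intro g hg
  rw [Subgroup.mem_centralizer_iff] at hg
  obtain ⟨hmv, h1⟩ := moved_check
  simp only [List.all_eq_true, List.mem_range, Bool.and_eq_true, Bool.or_eq_true,
    Bool.not_eq_true', List.any_eq_true] at hmv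
  have hval : ∀ {d}, d ∈ 0 :: lOne → valid (el cert d) = true := fun hd =>
    el_valid els_ok (lt_of_mem groupOK_one hd)
  have happ : ∀ {d}, d ∈ 0 :: lOne → ∀ i < 24,
      (elM d : Equiv.Perm GolayPt) (pt i) = pt (img (el cert d) i) := by
    intro d hd i hi
    rw [coe_elM (lt_of_mem groupOK_one hd)]
    exact permOf_pt (hval hd) hi
  have hcomm : ∀ {d}, d ∈ 0 :: lOne → ∀ q : GolayPt,
      (elM d : Equiv.Perm GolayPt) ((g : Equiv.Perm GolayPt) q) =
        (g : Equiv.Perm GolayPt) ((elM d : Equiv.Perm GolayPt) q) := by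
    intro d hd q
    have := congrArg (fun u : MG => (u : Equiv.Perm GolayPt) q) (hg _ ⟨d, hd, rfl⟩)
    simpa [Subgroup.coe_mul, Equiv.Perm.mul_apply] using this
  -- the image of the base point is moved
  set j := idx ((g : Equiv.Perm GolayPt) (pt 1)) with hj
  have hjl : j < 24 := idx_lt _
  have hgj : (g : Equiv.Perm GolayPt) (pt 1) = pt j := (pt_idx _).symm
  have hjmv : movedSet.testBit j = true := by
    rcases (hmv j hjl).1.1 with h | h
    · exact h
    exfalso
    rcases (hmv 1 (by norm_num)).1.2 with h' | ⟨d, hd, hne⟩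
    · rw [h1] at h'; exact absurd h' (by decide)
    have hd' : d ∈ 0 :: lOne := List.mem_cons_of_mem _ hd
    have e1 := hcomm hd' (pt 1)
    rw [hgj, happ hd' j hjl, Nat.eq_of_beq_eq_true (h d hd), happ hd' 1 (by norm_num),
      ← hgj] at e1
    have e2 := congrArg idx ((g : Equiv.Perm GolayPt).injective e1)
    rw [idx_pt (by norm_num), idx_pt (valid_lt (hval hd') (by norm_num))] at e2
    rw [← e2] at hne
    simp at hne
  obtain ⟨d, hd, hdj⟩ : ∃ d ∈ 0 :: lOne, img (el cert d) 1 = j := by
    rcases (hmv j hjl).2 with h | ⟨d, hd, h⟩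
    · rw [hjmv] at h; exact absurd h (by decide)
    · exact ⟨d, hd, Nat.eq_of_beq_eq_true h⟩
  set h : MG := (elM d)⁻¹ * g with hh
  have hhfix1 : (h : Equiv.Perm GolayPt) (pt 1) = pt 1 := by
    rw [hh, Subgroup.coe_mul, Subgroup.coe_inv, Equiv.Perm.mul_apply, hgj, ← hdj,
      ← happ hd 1 (by norm_num)]
    simp
  have hhcomm : ∀ {e}, e ∈ 0 :: lOne → elM e * h = h * elM e := by
    intro e he
    have c1 : elM e * g = g * elM e := hg _ ⟨e, he, rfl⟩
    have c2 : elM e * elM d = elM d * elM e := by
      obtain ⟨c, hc, hce⟩ := mul_mem_list groupOK_one he hd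
      have q1 := sq_list groupOK_one he
      have q2 := sq_list groupOK_one hd
      have q3 := sq_list groupOK_one hc
      rw [hce] at q3
      calc elM e * elM d = (elM e * elM d)⁻¹ := (inv_eq_of_mul_eq_one_right q3).symm
        _ = (elM d)⁻¹ * (elM e)⁻¹ := mul_inv_rev _ _
        _ = elM d * elM e := by
            rw [inv_eq_of_mul_eq_one_right q1, inv_eq_of_mul_eq_one_right q2]
    have c3 : Commute (elM e) ((elM d)⁻¹) := (Commute.inv_right c2)
    exact (c3.mul_right c1).eq
  have hfix : ∀ i < 24, movedSet.testBit i = true →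
      (h : Equiv.Perm GolayPt) (pt i) = pt i := by
    intro i hi hb
    rcases (hmv i hi).2 with hf | ⟨e, he, hei⟩
    · rw [hb] at hf; exact absurd hf (by decide)
    have := congrArg (fun u : MG => (u : Equiv.Perm GolayPt) (pt 1)) (hhcomm he)
    simp only [Subgroup.coe_mul, Equiv.Perm.mul_apply, hhfix1, happ he 1 (by norm_num),
      Nat.eq_of_beq_eq_true hei] at this
    exact this.symm
  have hbot : fixMasks fixedSets = ⊥ := by
    have := card_fixMasks fixed_chain
    rw [show chainCard [] = 1 from rfl] at this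
    exact Subgroup.card_eq_one.1 this
  have hone : (h : Equiv.Perm GolayPt) ∈ fixMasks fixedSets := by
    refine ⟨h.2.1, fun A hA => ?_⟩
    have hAok := fixedSets_ok
    simp only [List.all_eq_true, Bool.or_eq_true, beq_iff_eq, List.mem_range,
      Bool.not_eq_true'] at hAok
    rcases hAok A hA with (rfl | rfl) | hsub
    · exact h.2.2 _ (by decide)
    · exact h.2.2 _ (by decide)
    · have hfa : ∀ q ∈ mset A, (h : Equiv.Perm GolayPt) q = q := by
        intro q hq
        rw [mem_mset] at hq
        rcases hsub (idx q) (idx_lt q) with hf | hf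
        · rw [hq] at hf; exact absurd hf (by decide)
        · have := hfix (idx q) (idx_lt q) hf
          rwa [pt_idx] at this
      ext q
      rw [Finset.mem_smul_finset]
      constructor
      · rintro ⟨r, hr, rfl⟩
        rwa [Equiv.Perm.smul_def, hfa r hr]
      · intro hq
        exact ⟨q, hq, by rw [Equiv.Perm.smul_def, hfa q hq]⟩
  rw [hbot, Subgroup.mem_bot] at hone
  have : h = 1 := Subtype.ext hone
  rw [hh, inv_mul_eq_one] at this
  exact this ▸ ⟨d, hd, rfl⟩

theorem gOne_mem (k : ℕ) (hk : k < 3) :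
    gM (gOne.getD k 0) ∈ Subgroup.normalizer (bOne : Set MG) ∧
      inFix X22 (gOne.getD k 0) = true := by
  have hmem : gOne.getD k 0 ∈ gOne := by
    interval_cases k <;> decide
  have := normOK_one
  rw [List.all_eq_true] at this
  exact (gM_normalizes groupOK_one (this _ hmem)).symm

/-- The normaliser of the first subgroup contains an elementary group of order 9. -/
theorem nine_bOne : ∃ a ∈ Subgroup.normalizer (bOne : Set MG),
    ∃ b ∈ Subgroup.normalizer (bOne : Set MG), a ^ 3 = 1 ∧ b ^ 3 = 1 ∧ a * b = b * a ∧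
      a ≠ 1 ∧ a ≠ b ∧ a ≠ b ^ 2 ∧ b ≠ 1 := by
  obtain ⟨ha, va⟩ := gOne_mem 0 (by norm_num)
  obtain ⟨hb, vb⟩ := gOne_mem 1 (by norm_num)
  have hv : valid (gOne.getD 0 0) = true ∧ valid (gOne.getD 1 0) = true :=
    ⟨inFix_valid va, inFix_valid vb⟩
  have h := relOne
  simp only [Bool.and_eq_true, Bool.not_eq_true'] at h
  obtain ⟨⟨⟨⟨⟨⟨h1, h2⟩, h3⟩, h4⟩, h5⟩, h6⟩, h7⟩ := h
  generalize gOne.getD 0 0 = ca at *
  generalize gOne.getD 1 0 = cb at *
  refine ⟨_, ha, _, hb, Subtype.ext ?_, Subtype.ext ?_, Subtype.ext ?_, fun he => ?_, fun he => ?_,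
    fun he => ?_, fun he => ?_⟩
  · simpa [coe_gM va, pow_succ, mul_assoc] using eqW_sound (by simp [hv]) h1
  · simpa [coe_gM vb, pow_succ, mul_assoc] using eqW_sound (by simp [hv]) h2
  · simpa [coe_gM va, coe_gM vb] using eqW_sound (by simp [hv]) h3
  · exact neW_sound (by simp [hv]) h4 (by simpa [coe_gM va] using congrArg Subtype.val he)
  · exact neW_sound (by simp [hv]) h5
      (by simpa [coe_gM va, coe_gM vb] using congrArg Subtype.val he)
  · exact neW_sound (by simp [hv]) h6
      (by simpa [coe_gM va, coe_gM vb, pow_two] using congrArg Subtype.val he)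
  · exact neW_sound (by simp [hv]) h7 (by simpa [coe_gM vb] using congrArg Subtype.val he)

/-- The normaliser of the first subgroup is transitive on its involutions. -/
theorem trans_bOne {x y : MG} (hx : x ∈ bOne) (hy : y ∈ bOne) (hx1 : x ≠ 1) (hy1 : y ≠ 1) :
    ∃ g ∈ Subgroup.normalizer (bOne : Set MG), g * x * g⁻¹ = y := by
  have horb := orbOK
  simp only [List.all_eq_true, Bool.and_eq_true] at horb
  let next : List ℕ → ℕ × ℕ × ℕ → List ℕ := fun acc t =>
    if acc.contains t.2.1 && (0 :: lOne).elem t.1 then t.1 :: acc else acc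
  have key : ∀ (l : List (ℕ × ℕ × ℕ)), (∀ t ∈ l, t ∈ orbOne) → ∀ known : List ℕ,
      (∀ d ∈ known, d ∈ 0 :: lOne ∧ ∃ g ∈ Subgroup.normalizer (bOne : Set MG),
        g * elM 15 * g⁻¹ = elM d) →
      ∀ d ∈ l.foldl next known, ∃ g ∈ Subgroup.normalizer (bOne : Set MG),
        g * elM 15 * g⁻¹ = elM d := by
    intro l
    induction l with
    | nil => intro _ known hk d hd; exact (hk d hd).2
    | cons t l ih =>
      intro hl known hk d hd
      refine ih (fun u hu => hl u (List.mem_cons_of_mem _ hu)) (next known t) ?_ d hd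
      intro e he
      simp only [next] at he
      split_ifs at he with hc
      · rcases List.mem_cons.1 he with rfl | he
        · rw [Bool.and_eq_true] at hc
          have h0 : t.1 ∈ 0 :: lOne := by simpa using hc.2
          refine ⟨h0, ?_⟩
          obtain ⟨hk3, heq⟩ := horb t (hl t (List.mem_cons_self ..))
          obtain ⟨hg, vg⟩ := gOne_mem _ (Nat.le_of_ble_eq_true hk3)
          obtain ⟨hj0, g, hgN, hgj⟩ := hk t.2.1 (by simpa using hc.1)
          refine ⟨gM (gOne.getD t.2.2 0) * g, mul_mem hg hgN, ?_⟩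
          rw [show ∀ a b c : MG, a * b * c * (a * b)⁻¹ = a * (b * c * b⁻¹) * a⁻¹ from
            fun a b c => by group, hgj, mul_inv_eq_iff_eq_mul]
          have la := lt_of_mem groupOK_one hj0
          have lb := lt_of_mem groupOK_one h0
          generalize gOne.getD t.2.2 0 = cg at *
          have := eqW_sound
            (by simp [inFix_valid vg, el_valid els_ok la, el_valid els_ok lb]) heq
          apply Subtype.ext
          simpa [coe_gM vg, coe_elM la, coe_elM lb, CfsgLib.Fusion.MathieuCert.P] using this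
        · exact hk e he
      · exact hk e he
  have hfold : ∀ d ∈ lOne, d ∈ orbOne.foldl next [15] := by
    simp only [next]
    decide +kernel
  have reach : ∀ d ∈ lOne, ∃ g ∈ Subgroup.normalizer (bOne : Set MG),
      g * elM 15 * g⁻¹ = elM d := fun d hd =>
    key orbOne (fun _ h => h) [15] (by
      intro e he
      rw [List.mem_singleton] at he
      subst he
      exact ⟨by decide, 1, one_mem _, by group⟩) d (hfold d hd)
  obtain ⟨a, ha, rfl⟩ := hx
  obtain ⟨b, hb, rfl⟩ := hy
  rcases List.mem_cons.1 ha with rfl | ha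
  · exact absurd elM_zero hx1
  rcases List.mem_cons.1 hb with rfl | hb
  · exact absurd elM_zero hy1
  obtain ⟨g, hg, hga⟩ := reach a ha
  obtain ⟨g', hg', hgb⟩ := reach b hb
  exact ⟨g' * g⁻¹, mul_mem hg' (inv_mem hg), by rw [← hga, ← hgb]; group⟩

/-- The normaliser of the second subgroup contains a Frobenius group of order 20. -/
theorem frob_bTwo : ∃ x ∈ Subgroup.normalizer (bTwo : Set MG),
    ∃ y ∈ Subgroup.normalizer (bTwo : Set MG), x ^ 5 = 1 ∧ x ≠ 1 ∧ y * x * y⁻¹ = x ^ 2 := by
  have h2 := normOK_two
  rw [Bool.and_eq_true] at h2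
  obtain ⟨vx, hx⟩ := gM_normalizes groupOK_two h2.1
  obtain ⟨vy, hy⟩ := gM_normalizes groupOK_two h2.2
  have hv : valid gX = true ∧ valid gY = true := ⟨inFix_valid vx, inFix_valid vy⟩
  have h := relTwo
  simp only [Bool.and_eq_true, Bool.not_eq_true'] at h
  obtain ⟨⟨h5, h1⟩, hr⟩ := h
  refine ⟨_, hx, _, hy, Subtype.ext ?_, fun he => ?_, ?_⟩
  · simpa [coe_gM vx, pow_succ, mul_assoc] using eqW_sound (by simp [hv]) h5
  · exact neW_sound (by simp [hv]) h1 (by simpa [coe_gM vx] using congrArg Subtype.val he)
  · rw [mul_inv_eq_iff_eq_mul]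
    apply Subtype.ext
    simpa [coe_gM vx, coe_gM vy, pow_two, mul_assoc] using eqW_sound (by simp [hv]) hr

end CfsgLib.J4Local.MTwoTwo
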